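import Groth.Agent.Lib.PicDesc21.Classes
import Groth.Agent.Lib.AbRigid.Connected
import Mathlib.CategoryTheory.Monoidal.Cartesian.Over

/-!
Classes algebraically equivalent to zero on geometric fibres: stability under pullback, classes coming from
the base, connected families.
-/

universe u

open CategoryTheory CategoryTheory.Limits AlgebraicGeometry MonoidalCategory CartesianMonoidalCategory MonObj

set_option backward.isDefEq.respectTransparency false

noncomputable section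

namespace Groth.Agent.AbDual21

open Groth.Agent.PicDesc21

section over

variable {S : Scheme.{u}} (X : Over S)

theorem XTmap_eq {T T' : Over S} (g : T' ⟶ T) : PicF.XTmap X.hom g = (X ◁ g).left := by
  apply pullback.hom_ext
  · rw [PicF.XTmap]
    refine (pullback.lift_fst _ _ _).trans ?_
    exact (Category.comp_id _).trans (congrArg CommaMorphism.left (whiskerLeft_fst X g)).symm
  · rw [PicF.XTmap]
    refine (pullback.lift_snd _ _ _).trans ?_
    exact (congrArg CommaMorphism.left (whiskerLeft_snd X g)).symm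

theorem bcMap_eq {Y : Over S} (f : X ⟶ Y) (T : Over S) : AbDual.bcMap f T = (f ▷ T).left := by
  apply pullback.hom_ext
  · rw [AbDual.bcMap]
    refine (pullback.lift_fst _ _ _).trans ?_
    exact (congrArg CommaMorphism.left (whiskerRight_fst f T)).symm
  · rw [AbDual.bcMap]
    refine (pullback.lift_snd _ _ _).trans ?_
    exact (Category.comp_id _).trans (congrArg CommaMorphism.left (whiskerRight_snd f T)).symm

theorem secT_eq (σ : 𝟙_ (Over S) ⟶ X) (h : σ.left ≫ X.hom = 𝟙 S) (T : Over S) :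
    PicF.secT X.hom σ.left h T = (lift (toUnit T ≫ σ) (𝟙 T)).left := by
  apply pullback.hom_ext
  · rw [PicF.secT]
    refine (pullback.lift_fst _ _ _).trans ?_
    exact (congrArg CommaMorphism.left (lift_fst (toUnit T ≫ σ) (𝟙 T))).symm
  · rw [PicF.secT]
    refine (pullback.lift_snd _ _ _).trans ?_
    exact (congrArg CommaMorphism.left (lift_snd (toUnit T ≫ σ) (𝟙 T))).symm

end over

section algZ

variable {Ω : Type u} [Field Ω] {P P' : Scheme.{u}}

/-- algebraic equivalence to zero, on classes -/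
def AlgZ (π : P ⟶ Spec (CommRingCat.of Ω)) (c : PicF.Cl P) : Prop :=
  ∃ (B : Scheme.{u}) (q : B ⟶ Spec (CommRingCat.of Ω)) (_ : ConnectedSpace B) (_ : LocallyOfFiniteType q)
    (_ : QuasiCompact q) (m : PicF.Cl (pullback π q)) (_ : PicF.IsInvertibleCl m)
    (t t₀ : Spec (CommRingCat.of Ω) ⟶ B) (ht : t ≫ q = 𝟙 _) (ht₀ : t₀ ≫ q = 𝟙 _),
    PicF.pullCl (pullback.lift (𝟙 P) (π ≫ t) (by rw [Category.id_comp, Category.assoc, ht, Category.comp_id])) m = c ∧
    PicF.pullCl (pullback.lift (𝟙 P) (π ≫ t₀) (by rw [Category.id_comp, Category.assoc, ht₀, Category.comp_id])) m =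
      PicF.cl (Coh.structureModule P)

theorem algZ_iff (π : P ⟶ Spec (CommRingCat.of Ω)) (L : P.Modules) :
    AlgZ π (PicF.cl L) ↔ @Pic13.IsAlgEquivZero Ω _ P ⟨π⟩ L := by
  constructor
  · rintro ⟨B, q, hc, hl, hq, m, ⟨M, rfl, hM⟩, t, t₀, ht, ht₀, h, h₀⟩
    exact ⟨B, q, hc, hl, hq, M, hM, t, t₀, ht, ht₀, (PicGrp.cl_eq_cl_iff _ _).1 h, (PicGrp.cl_eq_cl_iff _ _).1 h₀⟩
  · rintro ⟨B, q, hc, hl, hq, M, hM, t, t₀, ht, ht₀, h, h₀⟩
    exact ⟨B, q, hc, hl, hq, PicF.cl M, ⟨M, rfl, hM⟩, t, t₀, ht, ht₀, (PicGrp.cl_eq_cl_iff _ _).2 h,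
      (PicGrp.cl_eq_cl_iff _ _).2 h₀⟩

theorem algZ_pull {π : P ⟶ Spec (CommRingCat.of Ω)} {π' : P' ⟶ Spec (CommRingCat.of Ω)} (k : P' ⟶ P)
    (hk : k ≫ π = π') {c : PicF.Cl P} (h : AlgZ π c) : AlgZ π' (PicF.pullCl k c) := by
  obtain ⟨B, q, hc, hl, hq, m, hm, t, t₀, ht, ht₀, h, h₀⟩ := h
  subst hk
  let K : pullback (k ≫ π) q ⟶ pullback π q :=
    pullback.lift (pullback.fst _ _ ≫ k) (pullback.snd _ _) (by rw [Category.assoc, pullback.condition])
  have e : ∀ (t : Spec (CommRingCat.of Ω) ⟶ B) (ht : t ≫ q = 𝟙 _),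
      pullback.lift (𝟙 P') ((k ≫ π) ≫ t) (by rw [Category.id_comp, Category.assoc, ht, Category.comp_id]) ≫ K =
        k ≫ pullback.lift (𝟙 P) (π ≫ t) (by rw [Category.id_comp, Category.assoc, ht, Category.comp_id]) := by
    intro t ht
    apply pullback.hom_ext <;> simp [K] <;> exact Category.id_comp _
  refine ⟨B, q, hc, hl, hq, PicF.pullCl K m, isInvertibleCl_pull K hm, t, t₀, ht, ht₀, ?_, ?_⟩
  · rw [pullCl_pullCl, e t ht, ← pullCl_pullCl, h]
  · rw [pullCl_pullCl, e t₀ ht₀, ← pullCl_pullCl, h₀, pullCl_structure]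

theorem algZ_one (π : P ⟶ Spec (CommRingCat.of Ω)) : AlgZ π (PicF.cl (Coh.structureModule P)) := by
  refine ⟨Spec (CommRingCat.of Ω), 𝟙 _, ?_, inferInstance, inferInstance, PicF.cl (Coh.structureModule _),
    ⟨_, rfl, PicLoc.isInvertible_structureModule _⟩, 𝟙 _, 𝟙 _, Category.comp_id _, Category.comp_id _,
    pullCl_structure _, pullCl_structure _⟩
  exact inferInstanceAs (ConnectedSpace (PrimeSpectrum Ω))

/-- an invertible class on the spectrum of a field is trivial -/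
theorem isTrivialCl_spec_field {c : PicF.Cl (Spec (CommRingCat.of Ω))} (hc : PicF.IsInvertibleCl c) :
    PicF.IsTrivialCl c := by
  obtain ⟨L, rfl, hL⟩ := hc
  obtain ⟨U, hU, ⟨e⟩⟩ := hL (IsLocalRing.closedPoint Ω)
  have hU' : U = ⊤ := top_le_iff.1 fun z _ => by
    rwa [show z = IsLocalRing.closedPoint Ω from Subsingleton.elim (α := PrimeSpectrum Ω) _ _]
  subst hU'
  let e' : (Scheme.Modules.pullback (⊤ : (Spec (CommRingCat.of Ω)).Opens).ι).obj L ≅ Coh.structureModule _ :=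
    ((Scheme.Modules.restrictFunctorIsoPullback _).app L).symm ≪≫ e
  have h : PicF.pullCl (⊤ : (Spec (CommRingCat.of Ω)).Opens).ι (PicF.cl L) = PicF.cl (Coh.structureModule _) :=
    Quot.sound ⟨e'⟩
  have : IsIso (⊤ : (Spec (CommRingCat.of Ω)).Opens).ι :=
    inferInstanceAs (IsIso (Spec (CommRingCat.of Ω)).topIso.hom)
  have h' := congrArg (PicF.pullCl (inv (⊤ : (Spec (CommRingCat.of Ω)).Opens).ι)) h
  rw [pullCl_pullCl, IsIso.inv_hom_id, PicLoc.pullCl_id, pullCl_structure] at h'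
  exact h'

end algZ

section picZero

variable {X X' S S' : Scheme.{u}} {f : X ⟶ S} {f' : X' ⟶ S'}

theorem isPicZeroCl_iff {T : Over S} {c : PicF.Cl (PicF.XT f T)} :
    AbDual.IsPicZeroCl f T c ↔ PicF.IsInvertibleCl c ∧
      ∀ (Ω : Type u) [Field Ω] [IsAlgClosed Ω] (σ : Spec (CommRingCat.of Ω) ⟶ T.left),
        AlgZ (pullback.snd (PicF.XTproj f T) σ) (PicF.pullCl (pullback.fst (PicF.XTproj f T) σ) c) := by
  constructor
  · rintro ⟨L, rfl, hL, h⟩
    refine ⟨⟨L, rfl, hL⟩, fun Ω _ _ σ => (algZ_iff _ _).2 (h (σ (IsLocalRing.closedPoint Ω)) Ω σ ?_)⟩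
    refine Set.eq_singleton_iff_unique_mem.2 ⟨⟨_, rfl⟩, ?_⟩
    rintro _ ⟨z, rfl⟩
    exact congrArg σ.base (Subsingleton.elim (α := PrimeSpectrum Ω) z _)
  · rintro ⟨⟨L, rfl, hL⟩, h⟩
    exact ⟨L, rfl, hL, fun t Ω _ _ σ _ => (algZ_iff _ _).1 (h Ω σ)⟩

theorem picZero_invertible {T : Over S} {c : PicF.Cl (PicF.XT f T)} (h : AbDual.IsPicZeroCl f T c) :
    PicF.IsInvertibleCl c := (isPicZeroCl_iff.1 h).1

/-- stability under pullback along maps covering a map of the bases -/
theorem picZero_pull {T : Over S} {T' : Over S'} {c : PicF.Cl (PicF.XT f T)} (hc : AbDual.IsPicZeroCl f T c)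
    (h : PicF.XT f' T' ⟶ PicF.XT f T) (g : T'.left ⟶ T.left) (hh : h ≫ PicF.XTproj f T = PicF.XTproj f' T' ≫ g) :
    AbDual.IsPicZeroCl f' T' (PicF.pullCl h c) := by
  rw [isPicZeroCl_iff] at hc ⊢
  refine ⟨isInvertibleCl_pull h hc.1, fun Ω _ _ σ => ?_⟩
  let k : pullback (PicF.XTproj f' T') σ ⟶ pullback (PicF.XTproj f T) (σ ≫ g) :=
    pullback.lift (pullback.fst _ _ ≫ h) (pullback.snd _ _) (by
      rw [Category.assoc, hh, reassoc_of% pullback.condition])
  have h1 := algZ_pull k (pullback.lift_snd _ _ _) (hc.2 Ω (σ ≫ g))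
  rw [pullCl_pullCl, pullback.lift_fst, ← pullCl_pullCl] at h1
  exact h1

theorem picZero_one (T : Over S) : AbDual.IsPicZeroCl f T (PicF.cl (Coh.structureModule _)) := by
  rw [isPicZeroCl_iff]
  exact ⟨⟨_, rfl, PicLoc.isInvertible_structureModule _⟩, fun Ω _ _ σ => by rw [pullCl_structure]; exact algZ_one _⟩

theorem picZero_mul_base {T : Over S} {c : PicF.Cl (PicF.XT f T)} (hc : AbDual.IsPicZeroCl f T c)
    {n : PicF.Cl T.left} (hn : PicF.IsInvertibleCl n) :
    AbDual.IsPicZeroCl f T (PicGrp.mulCl c (PicF.pullCl (PicF.XTproj f T) n)) := by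
  rw [isPicZeroCl_iff] at hc ⊢
  refine ⟨M2.isInvertibleCl_mulCl hc.1 (isInvertibleCl_pull _ hn), fun Ω _ _ σ => ?_⟩
  have h1 : PicF.IsTrivialCl (PicF.pullCl (pullback.fst (PicF.XTproj f T) σ) (PicF.pullCl (PicF.XTproj f T) n)) := by
    rw [pullCl_pullCl, pullback.condition, ← pullCl_pullCl]
    exact pullCl_trivial _ (isTrivialCl_spec_field (isInvertibleCl_pull σ hn))
  rw [pullCl_mulCl, h1, mulCl_one]
  exact hc.2 Ω σ

theorem picZero_base {T : Over S} {n : PicF.Cl T.left} (hn : PicF.IsInvertibleCl n) :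
    AbDual.IsPicZeroCl f T (PicF.pullCl (PicF.XTproj f T) n) := by
  rw [← M2.one_mulCl (PicF.pullCl _ n)]
  exact picZero_mul_base (picZero_one T) hn

/-- a family over a connected scheme over an algebraically closed field with a trivial member -/
theorem picZero_of_family {T : Over S} {Ω : Type u} [Field Ω] [IsAlgClosed Ω] [ConnectedSpace T.left]
    (q : T.left ⟶ Spec (CommRingCat.of Ω)) [LocallyOfFiniteType q] [QuasiCompact q]
    {σ : Spec (CommRingCat.of Ω) ⟶ S} (hq : q ≫ σ = T.hom)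
    (t₀ : Spec (CommRingCat.of Ω) ⟶ T.left) (ht₀ : t₀ ≫ q = 𝟙 _)
    {c : PicF.Cl (PicF.XT f T)} (hc : PicF.IsInvertibleCl c)
    (h0 : PicF.IsTrivialCl (PicF.pullCl (PicF.XTmap f (AbDual.ovrHom T t₀)) c)) : AbDual.IsPicZeroCl f T c := by
  rw [isPicZeroCl_iff]
  refine ⟨hc, fun Ω' _ _ β => ?_⟩
  let B' := pullback q (β ≫ q)
  let q' : B' ⟶ Spec (CommRingCat.of Ω') := pullback.snd _ _
  let π' := pullback.snd (PicF.XTproj f T) β
  have : ConnectedSpace B' := AbRigid.connectedSpace_pullback_of_isAlgClosed (K := Ω) q (β ≫ q)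
  let K : pullback π' q' ⟶ PicF.XT f T :=
    pullback.lift (pullback.fst π' q' ≫ pullback.fst _ _ ≫ pullback.fst f T.hom) (pullback.snd π' q' ≫ pullback.fst _ _) (by
      simp only [Category.assoc, ← hq, pullback.condition, pullback.condition_assoc, π', q'])
  let t : Spec (CommRingCat.of Ω') ⟶ B' := pullback.lift β (𝟙 _) (by simp)
  let t₀' : Spec (CommRingCat.of Ω') ⟶ B' := pullback.lift (β ≫ q ≫ t₀) (𝟙 _) (by simp [ht₀])
  refine ⟨B', q', inferInstance, inferInstance, inferInstance, PicF.pullCl K c, isInvertibleCl_pull K hc, t, t₀',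
    pullback.lift_snd _ _ _, pullback.lift_snd _ _ _, ?_, ?_⟩
  · rw [pullCl_pullCl]
    congr 1
    apply pullback.hom_ext
    · simp only [K, Category.assoc, pullback.lift_fst]
      rw [← Category.assoc]
      exact (congrArg (· ≫ (pullback.fst (PicF.XTproj f T) β ≫ pullback.fst f T.hom))
        (pullback.lift_fst _ _ _)).trans (Category.id_comp _)
    · simp [K, t, π', ← pullback.condition]
  · rw [pullCl_pullCl]
    let l : pullback (PicF.XTproj f T) β ⟶ PicF.XT f (AbDual.ovr T t₀) :=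
      pullback.lift (pullback.fst _ _ ≫ pullback.fst f T.hom) (pullback.snd _ _ ≫ β ≫ q) (by
        simp [AbDual.ovr, ← hq, reassoc_of% ht₀, pullback.condition, pullback.condition_assoc])
    have e : pullback.lift (𝟙 _) (π' ≫ t₀') (by simp [q', t₀']) ≫ K = l ≫ PicF.XTmap f (AbDual.ovrHom T t₀) := by
      apply pullback.hom_ext
      · simp only [K, l, PicF.XTmap, Category.assoc, pullback.lift_fst, pullback.lift_fst_assoc, Category.comp_id]
        exact Category.id_comp _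
      · simp [K, l, PicF.XTmap, t₀', π']
    refine Eq.trans ?_ (pullCl_trivial l h0)
    rw [pullCl_pullCl]
    exact congrArg (PicF.pullCl · c) e

end picZero

end Groth.Agent.AbDual21

end
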