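import Groth.Agent.Lib.AbDual21.PicZero
import Groth.Agent.Lib.RigidRel.AbSch
import Groth.Agent.Lib.AbRigid.SmoothGI

/-!
Basic properties of the universal map of a dual abelian scheme, and functions on abelian schemes.
-/

universe u

open CategoryTheory CategoryTheory.Limits AlgebraicGeometry MonoidalCategory CartesianMonoidalCategory MonObj Opposite

set_option backward.isDefEq.respectTransparency false

noncomputable section

namespace Groth.Agent.AbDual21

open Groth.Agent.PicDesc21

variable {S : Scheme.{u}}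

/-- points are determined fppf locally -/
theorem hom_ext_cover {T A : Over S} {κ : Type (u + 1)} {U : κ → Scheme.{u}} {u : ∀ k, U k ⟶ T.left}
    (hu : Presieve.ofArrows U u ∈ Scheme.fppfPrecoverage T.left) {a b : T ⟶ A}
    (h : ∀ k, AbDual.ovrHom T (u k) ≫ a = AbDual.ovrHom T (u k) ≫ b) : a = b := by
  have hsh : (Presieve.ofArrows U u).IsSheafFor (yoneda.obj A.left) :=
    (Presieve.isSheafFor_iff_generate _).2
      ((GrothendieckTopology.Subcanonical.isSheaf_of_isRepresentable (J := Scheme.fppfTopology) _) _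
        (Precoverage.generate_mem_toGrothendieck hu))
  refine Over.OverMorphism.ext (hsh.isSeparatedFor.ext ?_)
  rintro Z g ⟨k⟩
  exact congrArg CommaMorphism.left (h k)

theorem hom_ext_presieve {T A : Over S} {R : Presieve T.left} (hR : R ∈ Scheme.fppfPrecoverage T.left) {a b : T ⟶ A}
    (h : ∀ ⦃U : Scheme.{u}⦄ (u : U ⟶ T.left), R u → AbDual.ovrHom T u ≫ a = AbDual.ovrHom T u ≫ b) : a = b :=
  hom_ext_cover (mem_fppf_presieve hR) fun k => h k.2.1 k.2.2

/-- global functions on a family with geometrically connected and reduced fibres -/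
theorem bijective_appTop {X T : Scheme.{u}} (f : X ⟶ T) [IsProper f] [Flat f] [LocallyOfFinitePresentation f]
    [GeometricallyConnected f] [GeometricallyReduced f] : Function.Bijective f.appTop := by
  have h0 := RigidRel.h0_of_geometrically f
  choose U hU hxU _ using fun x : T => exists_isAffineOpen_mem_and_subset (X := T) (x := x) (U := ⊤) trivial
  have hres : ∀ {V W : T.Opens} (h : W ≤ V) (a : Γ(T, V)),
      f.app W (T.presheaf.map (homOfLE h).op a) = X.presheaf.map (homOfLE (f.preimage_mono h)).op (f.app V a) :=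
    fun {V W} h a => ConcreteCategory.congr_hom (f.naturality (homOfLE h).op) a
  constructor
  · intro a b hab
    refine TopCat.Sheaf.eq_of_locally_eq' T.sheaf U ⊤ (fun x => homOfLE le_top)
      (fun x _ => TopologicalSpace.Opens.mem_iSup.2 ⟨x, hxU x⟩) a b fun x => ?_
    refine (h0 _ (hU x)).1 ?_
    change f.app (U x) (T.presheaf.map (homOfLE le_top).op a) = f.app (U x) (T.presheaf.map (homOfLE le_top).op b)
    rw [hres le_top a, hres le_top b]
    exact congrArg (X.presheaf.map _) hab
  · intro c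
    choose d hd using fun x => (h0 _ (hU x)).2 (X.presheaf.map (homOfLE (show f ⁻¹ᵁ U x ≤ ⊤ from le_top)).op c)
    obtain ⟨e, he, -⟩ := T.sheaf.existsUnique_gluing' U ⊤ (fun x => homOfLE le_top)
      (fun x _ => TopologicalSpace.Opens.mem_iSup.2 ⟨x, hxU x⟩) d fun x y => by
        refine TopCat.Sheaf.eq_of_locally_eq' T.sheaf (fun z => U z ⊓ (U x ⊓ U y)) (U x ⊓ U y)
          (fun z => homOfLE inf_le_right) (fun z hz => TopologicalSpace.Opens.mem_iSup.2 ⟨z, hxU z, hz⟩) _ _ fun z => ?_
        refine TopCat.Sheaf.eq_of_locally_eq' T.sheaf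
          (fun w : {w : T.Opens // IsAffineOpen w ∧ w ≤ U z ⊓ (U x ⊓ U y)} => w.1) _
          (fun w => homOfLE w.2.2) (fun w hw => ?_) _ _ fun w => ?_
        · obtain ⟨W, hW, hwW, hWle⟩ := exists_isAffineOpen_mem_and_subset hw
          exact TopologicalSpace.Opens.mem_iSup.2 ⟨⟨W, hW, hWle⟩, hwW⟩
        · refine (h0 _ w.2.1).1 ?_
          have key : ∀ (v : T) (hwv : w.1 ≤ U v), f.app w.1 (T.presheaf.map (homOfLE hwv).op (d v)) =
              X.presheaf.map (homOfLE (show f ⁻¹ᵁ w.1 ≤ ⊤ from le_top)).op c := by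
            intro v hwv
            rw [hres hwv (d v), hd, ← CategoryTheory.Functor.map_comp_apply]
            rfl
          have e1 : ∀ (v : T) (hwv : w.1 ≤ U v) (g : op (U v) ⟶ op w.1),
              T.presheaf.map g (d v) = T.presheaf.map (homOfLE hwv).op (d v) := fun v hwv g => by
            rw [Subsingleton.elim g (homOfLE hwv).op]
          simp only [← CategoryTheory.Functor.map_comp_apply]
          exact (congrArg (f.app w.1) (e1 x (w.2.2.trans (inf_le_right.trans inf_le_left)) _)).trans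
            ((key x _).trans ((key y _).symm.trans
              (congrArg (f.app w.1) (e1 y (w.2.2.trans (inf_le_right.trans inf_le_right)) _)).symm))
    refine ⟨e, TopCat.Sheaf.eq_of_locally_eq' X.sheaf (fun x => f ⁻¹ᵁ U x) ⊤ (fun x => homOfLE le_top)
      (fun p _ => TopologicalSpace.Opens.mem_iSup.2 ⟨f p, hxU (f p)⟩) _ _ fun x => ?_⟩
    refine ((hres (le_top : U x ≤ ⊤) e).symm.trans ?_).trans (hd x)
    exact congrArg _ (he x)

theorem bijective_appTop_snd (X : Over S) [IsProper X.hom] [Smooth X.hom] [GeometricallyConnected X.hom]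
    (T : Scheme.{u}) (τ : T ⟶ S) : Function.Bijective (pullback.snd X.hom τ).appTop :=
  have := AbRigid.geometricallyReduced_of_smooth X.hom
  bijective_appTop _

variable {X Xt : Over S} [GrpObj Xt] {φ : ∀ T : Over S, PicF.Cl (PicF.XT X.hom T) → (T ⟶ Xt)}
  (hX : AbDual.IsDualAV Scheme.fppfPrecoverage X Xt φ)

/-- the trivial class on `X ×_S T` -/
abbrev triv (X T : Over S) : PicF.Cl (PicF.XT X.hom T) := PicF.cl (Coh.structureModule _)

theorem picZero_whisker {T T' : Over S} (g : T' ⟶ T) {c : PicF.Cl (PicF.XT X.hom T)}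
    (hc : AbDual.IsPicZeroCl X.hom T c) :
    AbDual.IsPicZeroCl X.hom T' (PicF.pullCl (X ◁ g).left c) :=
  picZero_pull hc _ g.left (congrArg CommaMorphism.left (whiskerLeft_snd X g))

include hX

theorem phi_natural {T T' : Over S} (g : T' ⟶ T) {c : PicF.Cl (PicF.XT X.hom T)}
    (hc : AbDual.IsPicZeroCl X.hom T c) : φ T' (PicF.pullCl (X ◁ g).left c) = g ≫ φ T c := by
  rw [← XTmap_eq]
  exact hX.relPic.natural T T' g c hc

theorem phi_mul {T : Over S} {c d : PicF.Cl (PicF.XT X.hom T)} (hc : AbDual.IsPicZeroCl X.hom T c)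
    (hd : AbDual.IsPicZeroCl X.hom T d) : φ T (PicGrp.mulCl c d) = φ T c * φ T d := by
  obtain ⟨L, rfl⟩ := M2.exists_eq_cl c
  obtain ⟨M, rfl⟩ := M2.exists_eq_cl d
  exact hX.mul T L M hc hd

theorem phi_one (T : Over S) : φ T (triv X T) = 1 := by
  have h := phi_mul hX (picZero_one (f := X.hom) T) (picZero_one (f := X.hom) T)
  rw [M2.one_mulCl] at h
  exact left_eq_mul.mp h

theorem phi_base {T : Over S} {n : PicF.Cl T.left} (hn : PicF.IsInvertibleCl n) :
    φ T (PicF.pullCl (PicF.XTproj X.hom T) n) = 1 := by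
  obtain ⟨N, rfl, hN⟩ := hn
  choose U hU hU' using hN
  refine hom_ext_cover (κ := ULift.{u+1} T.left) (u := fun k => (U k.down).ι) (mem_fppf_iff.2 ⟨fun x => ⟨⟨x⟩, ?_⟩,
    fun k => ⟨inferInstance, inferInstance⟩⟩) fun k => ?_
  · rw [Scheme.Opens.range_ι]
    exact hU x
  · rw [← hX.relPic.natural _ _ _ _ (picZero_base ⟨N, rfl, fun y => ⟨_, hU y, hU' y⟩⟩), MonObj.comp_one]
    refine Eq.trans (congrArg (φ _) ?_) (phi_one hX _)
    rw [pullCl_pullCl]
    rw [show PicF.XTmap X.hom (AbDual.ovrHom T (U k.down).ι) ≫ PicF.XTproj X.hom T =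
      PicF.XTproj X.hom (AbDual.ovr T (U k.down).ι) ≫ (U k.down).ι from pullback.lift_snd _ _ _, ← pullCl_pullCl]
    refine pullCl_trivial _ ?_
    exact Quot.sound ⟨((Scheme.Modules.restrictFunctorIsoPullback _).app N).symm ≪≫ (hU' k.down).some⟩

theorem phi_mul_base {T : Over S} {c : PicF.Cl (PicF.XT X.hom T)} (hc : AbDual.IsPicZeroCl X.hom T c)
    {n : PicF.Cl T.left} (hn : PicF.IsInvertibleCl n) :
    φ T (PicGrp.mulCl c (PicF.pullCl (PicF.XTproj X.hom T) n)) = φ T c := by
  rw [phi_mul hX hc (picZero_base hn), phi_base hX hn, _root_.mul_one]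

end Groth.Agent.AbDual21

end
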