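import Groth.Agent.Lib.AbDual21.Translate

/-!
The theorem of the square for classes algebraically equivalent to zero, and the resulting additivity.
-/

universe u

open CategoryTheory CategoryTheory.Limits AlgebraicGeometry MonoidalCategory CartesianMonoidalCategory MonObj Opposite

set_option backward.isDefEq.respectTransparency false
set_option linter.style.haveILetI false

noncomputable section

namespace Groth.Agent.AbDual21

open Groth.Agent.PicDesc21

variable {S : Scheme.{u}} {X Xt : Over S}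

theorem whiskerRight_one [GrpObj X] (Z T : Over S) :
    ((1 : Z ⟶ X) ▷ T) = snd Z T ≫ lift (1 : T ⟶ X) (𝟙 T) := by
  apply CartesianMonoidalCategory.hom_ext
  · rw [Category.assoc, lift_fst, whiskerRight_fst]; simp
  · rw [Category.assoc, lift_snd, whiskerRight_snd, Category.comp_id]

theorem picZero_whiskerRight {Z T : Over S} (a : Z ⟶ X) {c : PicF.Cl (PicF.XT X.hom T)}
    (hc : AbDual.IsPicZeroCl X.hom T c) : AbDual.IsPicZeroCl Z.hom T (PicF.pullCl (a ▷ T).left c) :=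
  picZero_pull hc _ (𝟙 _) ((congrArg CommaMorphism.left (whiskerRight_snd a T)).trans (Category.comp_id _).symm)

/-- the restriction along the zero section -/
abbrev unitCl [GrpObj X] {T : Over S} (c : PicF.Cl (PicF.XT X.hom T)) : PicF.Cl T.left :=
  PicF.pullCl (lift (1 : T ⟶ X) (𝟙 T)).left c

theorem phi_whiskerRight_one [GrpObj X] {T : Over S} {c : PicF.Cl (PicF.XT X.hom T)}
    (hc : AbDual.IsPicZeroCl X.hom T c)
    {Z Zt : Over S} [GrpObj Zt] {ψ : ∀ T : Over S, PicF.Cl (PicF.XT Z.hom T) → (T ⟶ Zt)}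
    (hZ : AbDual.IsDualAV Scheme.fppfPrecoverage Z Zt ψ) :
    ψ T (PicF.pullCl ((1 : Z ⟶ X) ▷ T).left c) = 1 := by
  rw [whiskerRight_one, Over.comp_left, ← pullCl_pullCl]
  exact phi_base hZ (n := unitCl c) (isInvertibleCl_pull _ (picZero_invertible hc))

/-- the universal map is locally surjective, so it detects morphisms out of the dual -/
theorem dual_hom_ext [GrpObj Xt] {φ : ∀ T : Over S, PicF.Cl (PicF.XT X.hom T) → (T ⟶ Xt)}
    (hX : AbDual.IsDualAV Scheme.fppfPrecoverage X Xt φ) {A : Over S} {f g : Xt ⟶ A}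
    (h : ∀ (T : Over S) (c : PicF.Cl (PicF.XT X.hom T)), AbDual.IsPicZeroCl X.hom T c → φ T c ≫ f = φ T c ≫ g) :
    f = g := by
  obtain ⟨R, hR, hR'⟩ := hX.relPic.locallySurjective Xt (𝟙 Xt)
  refine hom_ext_presieve hR fun U u hu => ?_
  obtain ⟨c, hc, hc'⟩ := hR' u hu
  have := h _ c hc
  rwa [hc', Category.comp_id] at this

variable {φ : ∀ T : Over S, PicF.Cl (PicF.XT X.hom T) → (T ⟶ Xt)} [GrpObj X] [GrpObj Xt]
  (hX : AbDual.IsDualAV Scheme.fppfPrecoverage X Xt φ)
  [IsProper X.hom] [Smooth X.hom] [GeometricallyConnected X.hom] [IsSeparated Xt.hom]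
include hX

theorem utrans_eq {T : Over S} {c : PicF.Cl (PicF.XT X.hom T)} (hc : AbDual.IsPicZeroCl X.hom T c) :
    PicGrp.mulCl (PicF.pullCl (utrans X T).left c)
        (PicF.pullCl (snd X (X ⊗ T) ≫ snd X T).left (unitCl c)) =
      PicGrp.mulCl (PicF.pullCl (X ◁ snd X T).left c) (PicF.pullCl (snd X (X ⊗ T)).left c) := by
  have hn : PicF.IsInvertibleCl (PicF.pullCl (snd X T).left (unitCl c)) :=
    isInvertibleCl_pull _ (isInvertibleCl_pull _ (picZero_invertible hc))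
  have hm : PicF.IsInvertibleCl (Y := (X ⊗ T).left) c := picZero_invertible hc
  rw [Over.comp_left, ← pullCl_pullCl]
  have h1 := picZero_mul_base (picZero_utrans hc) hn
  have h2 := picZero_mul_base (picZero_whisker (snd X T) hc) hm
  have hφ : φ (X ⊗ T) (PicGrp.mulCl (PicF.pullCl (utrans X T).left c)
      (PicF.pullCl (PicF.XTproj X.hom (X ⊗ T)) (PicF.pullCl (snd X T).left (unitCl c)))) =
      φ (X ⊗ T) (PicGrp.mulCl (PicF.pullCl (X ◁ snd X T).left c) (PicF.pullCl (PicF.XTproj X.hom (X ⊗ T)) c)) := by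
    rw [phi_mul_base hX (picZero_utrans hc) hn, phi_mul_base hX (picZero_whisker (snd X T) hc) hm,
      phi_natural hX (snd X T) hc]
    exact mul_inv_eq_one.1 (defect_eq_one hX hc)
  obtain ⟨R, hR, hR'⟩ := hX.relPic.locallyInjective _ _ _ h1 h2 hφ
  refine cl_eq_of_local X.hom (bijective_appTop_snd X) η[X].left (Over.w η[X]) (picZero_invertible h1)
    (picZero_invertible h2) ?_ hR hR'
  have hsec : PicF.secT X.hom η[X].left (Over.w η[X]) (X ⊗ T) = (lift (1 : X ⊗ T ⟶ X) (𝟙 (X ⊗ T))).left := by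
    rw [secT_eq, Hom.one_def]
  have e1 : lift (1 : X ⊗ T ⟶ X) (𝟙 (X ⊗ T)) ≫ utrans X T = 𝟙 (X ⊗ T) := by
    apply CartesianMonoidalCategory.hom_ext <;> simp [MonObj.comp_mul]
  have e2 : lift (1 : X ⊗ T ⟶ X) (𝟙 (X ⊗ T)) ≫ (X ◁ snd X T) = snd X T ≫ lift (1 : T ⟶ X) (𝟙 T) := by
    apply CartesianMonoidalCategory.hom_ext <;> simp
  have e3 : (lift (1 : X ⊗ T ⟶ X) (𝟙 (X ⊗ T))).left ≫ PicF.XTproj X.hom (X ⊗ T) = 𝟙 _ :=
    congrArg CommaMorphism.left (lift_snd (1 : X ⊗ T ⟶ X) (𝟙 (X ⊗ T)))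
  rw [hsec, pullCl_mulCl, pullCl_mulCl]
  simp only [pullCl_pullCl, ← Category.assoc, ← Over.comp_left, e1, e2, lift_snd, Category.id_comp, Over.id_left,
    PicLoc.pullCl_id]
  exact M2.mulCl_comm _ _

/-- the theorem of the square -/
theorem square {T : Over S} {c : PicF.Cl (PicF.XT X.hom T)} (hc : AbDual.IsPicZeroCl X.hom T c) {Z : Over S}
    (a b : Z ⟶ X) :
    PicGrp.mulCl (PicF.pullCl ((a * b) ▷ T).left c) (PicF.pullCl (snd Z T).left (unitCl c)) =
      PicGrp.mulCl (PicF.pullCl (a ▷ T).left c) (PicF.pullCl (b ▷ T).left c) := by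
  let h : Z ⊗ T ⟶ X ⊗ (X ⊗ T) := lift (fst Z T ≫ a) (lift (fst Z T ≫ b) (snd Z T))
  have e1 : h ≫ utrans X T = (a * b) ▷ T := by
    apply CartesianMonoidalCategory.hom_ext <;> simp [h, MonObj.comp_mul]
  have e2 : h ≫ snd X (X ⊗ T) ≫ snd X T = snd Z T := by simp [h]
  have e3 : h ≫ (X ◁ snd X T) = a ▷ T := by apply CartesianMonoidalCategory.hom_ext <;> simp [h]
  have e4 : h ≫ snd X (X ⊗ T) = b ▷ T := by apply CartesianMonoidalCategory.hom_ext <;> simp [h]
  have he := congrArg (PicF.pullCl h.left) (utrans_eq hX hc)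
  simp only [pullCl_mulCl, pullCl_pullCl, ← Over.comp_left, Category.assoc, e1, reassoc_of% e2, e3, e4] at he
  rw [pullCl_pullCl, ← Over.comp_left]
  exact he

theorem phi_square {T : Over S} {c : PicF.Cl (PicF.XT X.hom T)} (hc : AbDual.IsPicZeroCl X.hom T c)
    {Z Zt : Over S} [GrpObj Zt] {ψ : ∀ T : Over S, PicF.Cl (PicF.XT Z.hom T) → (T ⟶ Zt)}
    (hZ : AbDual.IsDualAV Scheme.fppfPrecoverage Z Zt ψ) (a b : Z ⟶ X) :
    ψ T (PicF.pullCl ((a * b) ▷ T).left c) =
      ψ T (PicF.pullCl (a ▷ T).left c) * ψ T (PicF.pullCl (b ▷ T).left c) := by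
  rw [← phi_mul hZ (picZero_whiskerRight a hc) (picZero_whiskerRight b hc), ← square hX hc a b]
  exact (phi_mul_base hZ (picZero_whiskerRight (a * b) hc)
    (isInvertibleCl_pull _ (picZero_invertible hc))).symm

end Groth.Agent.AbDual21

end
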