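import Groth.Agent.Lib.AbDual21.Phi

/-!
Translation invariance of Pic⁰ of an abelian scheme, as seen by the universal map of its dual.
-/

universe u

open CategoryTheory CategoryTheory.Limits AlgebraicGeometry MonoidalCategory CartesianMonoidalCategory MonObj Opposite

set_option backward.isDefEq.respectTransparency false

noncomputable section

namespace Groth.Agent.AbDual21

open Groth.Agent.PicDesc21

variable {S : Scheme.{u}}

theorem exists_whisker_preimage {X T T' : Over S} (g : T' ⟶ T) (z : (X ⊗ T).left) (t : T'.left)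
    (h : (snd X T).left z = g.left t) : ∃ z', (X ◁ g).left z' = z := by
  obtain ⟨w, hw, -⟩ := Scheme.Pullback.exists_preimage_pullback (f := (snd X T).left) (g := g.left) z t h
  let l : pullback (snd X T).left g.left ⟶ (X ⊗ T').left :=
    pullback.lift (pullback.fst (snd X T).left g.left ≫ (fst X T).left) (pullback.snd _ _) (by
      rw [Category.assoc, Over.w (fst X T), ← Over.w (snd X T), reassoc_of% pullback.condition, Over.w g])
  refine ⟨l w, ?_⟩
  rw [← hw, ← Scheme.Hom.comp_apply]
  refine congrArg (fun a : pullback (snd X T).left g.left ⟶ (X ⊗ T).left => a w) ?_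
  apply pullback.hom_ext
  · show _ ≫ (X ◁ g).left ≫ (fst X T).left = _ ≫ (fst X T).left
    rw [← Over.comp_left, whiskerLeft_fst]
    exact pullback.lift_fst _ _ _
  · show _ ≫ (X ◁ g).left ≫ (snd X T).left = _ ≫ (snd X T).left
    rw [← Over.comp_left, whiskerLeft_snd, Over.comp_left, pullback.condition, ← Category.assoc]
    exact congrArg (· ≫ g.left) (pullback.lift_snd _ _ _)

variable {X Xt : Over S} [GrpObj X] [GrpObj Xt] {φ : ∀ T : Over S, PicF.Cl (PicF.XT X.hom T) → (T ⟶ Xt)}

/-- translation of `X ×_S T` by a point -/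
abbrev trans {T : Over S} (x : T ⟶ X) : X ⊗ T ⟶ X ⊗ T :=
  lift (fst X T * (snd X T ≫ x)) (snd X T)

/-- the universal translation -/
abbrev utrans (X T : Over S) [GrpObj X] : X ⊗ (X ⊗ T) ⟶ X ⊗ T :=
  lift (fst X (X ⊗ T) * (snd X (X ⊗ T) ≫ fst X T)) (snd X (X ⊗ T) ≫ snd X T)

theorem utrans_natural {T T' : Over S} (g : T' ⟶ T) :
    (X ◁ (X ◁ g)) ≫ utrans X T = utrans X T' ≫ (X ◁ g) := by
  apply CartesianMonoidalCategory.hom_ext <;> simp [MonObj.comp_mul]

theorem whisker_lift_utrans {T : Over S} (x : T ⟶ X) : (X ◁ lift x (𝟙 T)) ≫ utrans X T = trans x := by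
  apply CartesianMonoidalCategory.hom_ext <;> simp [MonObj.comp_mul]

theorem trans_one (T : Over S) : trans (1 : T ⟶ X) = 𝟙 (X ⊗ T) := by
  apply CartesianMonoidalCategory.hom_ext <;> simp

theorem picZero_utrans {T : Over S} {c : PicF.Cl (PicF.XT X.hom T)} (hc : AbDual.IsPicZeroCl X.hom T c) :
    AbDual.IsPicZeroCl X.hom (X ⊗ T) (PicF.pullCl (utrans X T).left c) :=
  picZero_pull hc _ (snd X T).left (congrArg CommaMorphism.left (lift_snd _ (snd X (X ⊗ T) ≫ snd X T)))

theorem picZero_trans {T : Over S} (x : T ⟶ X) {c : PicF.Cl (PicF.XT X.hom T)} (hc : AbDual.IsPicZeroCl X.hom T c) :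
    AbDual.IsPicZeroCl X.hom T (PicF.pullCl (trans x).left c) :=
  picZero_pull hc _ (𝟙 _) ((congrArg CommaMorphism.left (lift_snd _ (snd X T))).trans (Category.comp_id _).symm)

variable (φ) in
/-- the defect of translation invariance -/
abbrev defect (T : Over S) (c : PicF.Cl (PicF.XT X.hom T)) : X ⊗ T ⟶ Xt :=
  φ (X ⊗ T) (PicF.pullCl (utrans X T).left c) * (snd X T ≫ φ T c)⁻¹

variable (hX : AbDual.IsDualAV Scheme.fppfPrecoverage X Xt φ)
include hX

theorem whisker_defect {T T' : Over S} (g : T' ⟶ T) {c : PicF.Cl (PicF.XT X.hom T)}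
    (hc : AbDual.IsPicZeroCl X.hom T c) : (X ◁ g) ≫ defect φ T c = defect φ T' (PicF.pullCl (X ◁ g).left c) := by
  rw [defect, defect, MonObj.comp_mul, GrpObj.comp_inv, ← phi_natural hX (X ◁ g) (picZero_utrans hc),
    phi_natural hX g hc, whiskerLeft_snd_assoc]
  congr 2
  rw [pullCl_pullCl, pullCl_pullCl]
  exact congrArg (PicF.pullCl · c) (congrArg CommaMorphism.left (utrans_natural g))

theorem zero_defect {T : Over S} {c : PicF.Cl (PicF.XT X.hom T)} (hc : AbDual.IsPicZeroCl X.hom T c) :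
    lift (1 : T ⟶ X) (𝟙 T) ≫ defect φ T c = 1 := by
  rw [defect, MonObj.comp_mul, GrpObj.comp_inv, ← phi_natural hX _ (picZero_utrans hc), lift_snd_assoc,
    Category.id_comp, pullCl_pullCl]
  have e : (X ◁ lift (1 : T ⟶ X) (𝟙 T)) ≫ utrans X T = 𝟙 _ := (whisker_lift_utrans _).trans (trans_one T)
  rw [← Over.comp_left, e, Over.id_left, PicLoc.pullCl_id, mul_inv_cancel]

theorem defect_triv (T : Over S) : defect φ T (triv X T) = 1 := by
  rw [defect, show PicF.pullCl (utrans X T).left (triv X T) = triv X (X ⊗ T) from pullCl_structure _, phi_one hX, phi_one hX, MonObj.comp_one, inv_one, _root_.mul_one]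

variable [IsProper X.hom] [Smooth X.hom] [GeometricallyConnected X.hom] [IsSeparated Xt.hom]

theorem defect_geometric {T : Over S} {Ω : Type u} [Field Ω] [IsAlgClosed Ω]
    (σ : Spec (CommRingCat.of Ω) ⟶ T.left) {c : PicF.Cl (PicF.XT X.hom T)}
    (hc : AbDual.IsPicZeroCl X.hom T c) : (X ◁ AbDual.ovrHom T σ) ≫ defect φ T c = 1 := by
  rw [whisker_defect hX _ hc]
  have hc' := picZero_whisker (AbDual.ovrHom T σ) hc
  generalize PicF.pullCl (X ◁ AbDual.ovrHom T σ).left c = c' at hc' ⊢
  let T' : Over S := AbDual.ovr T σ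
  obtain ⟨B, q, _, _, _, m, hm, t, t₀, ht, ht₀, h, h₀⟩ := (isPicZeroCl_iff.1 hc').2 Ω (𝟙 _)
  let B' : Over S := Over.mk (q ≫ T'.hom)
  let π := pullback.snd (PicF.XTproj X.hom T') (𝟙 (Spec (CommRingCat.of Ω)))
  let gB : B' ⟶ T' := Over.homMk q rfl
  let jB : (X ⊗ B').left ⟶ pullback π q :=
    pullback.lift (pullback.lift (X ◁ gB).left ((snd X B').left ≫ q) (by
      rw [Category.comp_id]; exact congrArg CommaMorphism.left (whiskerLeft_snd X gB))) (snd X B').left
      (pullback.lift_snd _ _ _)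
  let j : (X ⊗ T').left ⟶ pullback (PicF.XTproj X.hom T') (𝟙 (Spec (CommRingCat.of Ω))) :=
    pullback.lift (𝟙 _) (PicF.XTproj X.hom T') (by rw [Category.comp_id]; exact Category.id_comp _)
  have key : ∀ (t : Spec (CommRingCat.of Ω) ⟶ B) (ht : t ≫ q = 𝟙 _) (tB : T' ⟶ B'), tB.left = t →
      (X ◁ tB).left ≫ jB = j ≫ pullback.lift (𝟙 _) (π ≫ t)
        (by rw [Category.id_comp, Category.assoc, ht, Category.comp_id]) := by
    intro t ht tB htB
    have hs : (X ◁ tB).left ≫ (snd X B').left = (snd X T').left ≫ t := by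
      rw [← htB, ← Over.comp_left, whiskerLeft_snd, Over.comp_left]
    apply pullback.hom_ext
    · simp only [Category.assoc, jB, pullback.lift_fst, Category.comp_id]
      apply pullback.hom_ext
      · simp only [Category.assoc, j, pullback.lift_fst]
        rw [← Over.comp_left, ← MonoidalCategory.whiskerLeft_comp,
          show tB ≫ gB = 𝟙 T' from Over.OverMorphism.ext (by rw [Over.comp_left, htB]; exact ht),
          MonoidalCategory.whiskerLeft_id]
        rfl
      · simp only [Category.assoc, j, pullback.lift_snd]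
        rw [reassoc_of% hs, ht]
        exact Category.comp_id _
    · simp only [Category.assoc, jB, j, π, pullback.lift_snd, pullback.lift_snd_assoc]
      exact hs
  let t' : T' ⟶ B' := Over.homMk t (by simp [B', reassoc_of% ht])
  let t₀' : T' ⟶ B' := Over.homMk t₀ (by simp [B', reassoc_of% ht₀])
  let m' : PicF.Cl (PicF.XT X.hom B') := PicF.pullCl jB m
  have e1 : PicF.pullCl (X ◁ t').left m' = c' := by
    rw [pullCl_pullCl, key t ht t' rfl, ← pullCl_pullCl, h, pullCl_pullCl]
    exact (congrArg (PicF.pullCl · c') (pullback.lift_fst _ _ _)).trans (PicLoc.pullCl_id _)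
  have e0 : PicF.pullCl (X ◁ t₀').left m' = triv X T' := by
    rw [pullCl_pullCl, key t₀ ht₀ t₀' rfl, ← pullCl_pullCl, h₀, pullCl_structure]
    rfl
  haveI : ConnectedSpace B'.left := ‹ConnectedSpace B›
  haveI : LocallyOfFiniteType q := ‹_›
  haveI : QuasiCompact q := ‹_›
  have hm' : AbDual.IsPicZeroCl X.hom B' m' := by
    refine picZero_of_family (f := X.hom) (T := B') q (σ := T'.hom) rfl t₀ ht₀ (isInvertibleCl_pull jB hm) ?_
    let e : AbDual.ovr B' t₀ ⟶ T' := Over.homMk (𝟙 _) (by simp [B', reassoc_of% ht₀])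
    have : AbDual.ovrHom B' t₀ = e ≫ t₀' := Over.OverMorphism.ext (Category.id_comp _).symm
    rw [this, XTmap_eq, MonoidalCategory.whiskerLeft_comp, Over.comp_left, ← pullCl_pullCl, e0]
    exact pullCl_trivial _ rfl
  rw [← e1, ← whisker_defect hX t' hm']
  suffices hB : defect φ B' m' = 1 by rw [hB, MonObj.comp_one]
  have hz : (X ◁ t₀') ≫ defect φ B' m' = 1 := by
    rw [whisker_defect hX t₀' hm', e0, defect_triv hX]
  let g : (X ⊗ B').left ⟶ B := (snd X B').left
  haveI : IsProper g := inferInstanceAs (IsProper (pullback.snd X.hom B'.hom))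
  haveI : Flat g := inferInstanceAs (Flat (pullback.snd X.hom B'.hom))
  haveI : LocallyOfFinitePresentation g :=
    inferInstanceAs (LocallyOfFinitePresentation (pullback.snd X.hom B'.hom))
  haveI : GeometricallyConnected g := inferInstanceAs (GeometricallyConnected (pullback.snd X.hom B'.hom))
  haveI : GeometricallyReduced g :=
    haveI := AbRigid.geometricallyReduced_of_smooth X.hom
    inferInstanceAs (GeometricallyReduced (pullback.snd X.hom B'.hom))
  obtain ⟨W, hW, htW, k, hk⟩ := RigidRel.exists_clopen_factor B'.hom Xt.hom g (defect φ B' m').left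
    ((Over.w (defect φ B' m')).trans (Over.w (snd X B')).symm) (t₀ (IsLocalRing.closedPoint Ω)) (by
      rintro _ ⟨z, hz', rfl⟩ _ ⟨w, hw', rfl⟩
      obtain ⟨z, rfl⟩ := exists_whisker_preimage t₀' z _ hz'
      obtain ⟨w, rfl⟩ := exists_whisker_preimage t₀' w _ hw'
      rw [← Scheme.Hom.comp_apply, ← Scheme.Hom.comp_apply, ← Over.comp_left, hz, Hom.one_def, Over.comp_left,
        Scheme.Hom.comp_apply, Scheme.Hom.comp_apply]
      refine congrArg (η[Xt]).left.base ?_
      rw [Over.toUnit_left, ← Over.w (snd X T'), Scheme.Hom.comp_apply, Scheme.Hom.comp_apply]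
      exact congrArg T'.hom.base (Subsingleton.elim (α := PrimeSpectrum Ω) _ _))
  have hWtop : W = ⊤ := by
    ext1
    exact IsClopen.eq_univ ⟨hW, W.isOpen⟩ ⟨_, htW⟩
  subst hWtop
  have hk' : (defect φ B' m').left = g ≫ ((Scheme.topIso B).inv ≫ k) := by
    have e : (g ⁻¹ᵁ ⊤).ι ≫ g = (g ∣_ ⊤) ≫ (Scheme.topIso B).hom := (morphismRestrict_ι g ⊤).symm
    have : IsIso (g ⁻¹ᵁ ⊤).ι := inferInstanceAs (IsIso (X ⊗ B').left.topIso.hom)
    rw [← cancel_epi (g ⁻¹ᵁ ⊤).ι, hk, reassoc_of% e, Iso.hom_inv_id_assoc]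
  have hs := congrArg (fun a => (lift (1 : B' ⟶ X) (𝟙 B')).left ≫ a) hk'
  simp only [← Over.comp_left] at hs
  rw [zero_defect hX hm', ← Category.assoc, show (lift (1 : B' ⟶ X) (𝟙 B')).left ≫ g = 𝟙 B from by
    rw [← Over.comp_left, lift_snd]; rfl] at hs
  erw [Category.id_comp] at hs
  apply Over.OverMorphism.ext
  rw [hk', ← hs]
  exact congrArg CommaMorphism.left (MonObj.comp_one (snd X B'))

theorem defect_eq_one {T : Over S} {c : PicF.Cl (PicF.XT X.hom T)} (hc : AbDual.IsPicZeroCl X.hom T c) :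
    defect φ T c = 1 := by
  let g : (X ⊗ T).left ⟶ T.left := (snd X T).left
  haveI : IsProper g := inferInstanceAs (IsProper (pullback.snd X.hom T.hom))
  haveI : Flat g := inferInstanceAs (Flat (pullback.snd X.hom T.hom))
  haveI : LocallyOfFinitePresentation g :=
    inferInstanceAs (LocallyOfFinitePresentation (pullback.snd X.hom T.hom))
  haveI : GeometricallyConnected g := inferInstanceAs (GeometricallyConnected (pullback.snd X.hom T.hom))
  haveI : GeometricallyReduced g :=
    haveI := AbRigid.geometricallyReduced_of_smooth X.hom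
    inferInstanceAs (GeometricallyReduced (pullback.snd X.hom T.hom))
  let h : X ⊗ T ⟶ Xt ⊗ T := lift (defect φ T c) (snd X T)
  obtain ⟨r, -, hr⟩ := (RigidRel.exists_factor_iff g (RigidRel.h0_of_geometrically g) h.left (snd Xt T).left
    (show h.left ≫ (snd Xt T).left = g by rw [← Over.comp_left, lift_snd]) T.left (𝟙 _)).2 fun t => by
      let Ω := AlgebraicClosure (T.left.residueField t)
      let σ : Spec (CommRingCat.of Ω) ⟶ T.left :=
        Spec.map (CommRingCat.ofHom (algebraMap (T.left.residueField t) Ω)) ≫ T.left.fromSpecResidueField t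
      have hσ : ∀ p, σ p = t := fun p => by
        rw [Scheme.Hom.comp_apply]
        exact Scheme.fromSpecResidueField_apply _ _
      refine ⟨(lift (1 : AbDual.ovr T σ ⟶ Xt) (AbDual.ovrHom T σ)).left (IsLocalRing.closedPoint Ω), fun z hz => ?_⟩
      obtain ⟨z, rfl⟩ := exists_whisker_preimage (AbDual.ovrHom T σ) z (IsLocalRing.closedPoint Ω)
        (hz.trans (hσ _).symm)
      have e : (X ◁ AbDual.ovrHom T σ) ≫ h = snd X _ ≫ lift (1 : AbDual.ovr T σ ⟶ Xt) (AbDual.ovrHom T σ) := by
        rw [comp_lift, comp_lift, defect_geometric hX σ hc, whiskerLeft_snd, MonObj.comp_one]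
      rw [← Scheme.Hom.comp_apply, ← Over.comp_left, e, Over.comp_left, Scheme.Hom.comp_apply]
      exact congrArg _ (Subsingleton.elim (α := PrimeSpectrum Ω) _ _)
  have h1 := congrArg (fun a => pullback.lift (𝟙 _) g (by simp) ≫ a) hr
  simp only [pullback.lift_fst_assoc, pullback.lift_snd_assoc, Category.id_comp] at h1
  have hs := congrArg (fun a => (lift (1 : T ⟶ X) (𝟙 T)).left ≫ a) h1
  rw [← Category.assoc, show (lift (1 : T ⟶ X) (𝟙 T)).left ≫ g = 𝟙 _ from by
    rw [← Over.comp_left, lift_snd]; rfl, Category.id_comp, ← Over.comp_left] at hs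
  have h2 : h = snd X T ≫ lift (1 : T ⟶ X) (𝟙 T) ≫ h := by
    apply Over.OverMorphism.ext
    rw [h1, ← hs]; rfl
  have h3 := congrArg (· ≫ fst Xt T) h2
  simp only [h, Category.assoc, lift_fst, zero_defect hX hc, MonObj.comp_one] at h3
  exact h3

/-- translation invariance -/
theorem phi_trans {T : Over S} (x : T ⟶ X) {c : PicF.Cl (PicF.XT X.hom T)} (hc : AbDual.IsPicZeroCl X.hom T c) :
    φ T (PicF.pullCl (trans x).left c) = φ T c := by
  have h := congrArg (lift x (𝟙 T) ≫ ·) (defect_eq_one hX hc)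
  simp only [defect, MonObj.comp_mul, GrpObj.comp_inv, MonObj.comp_one, lift_snd_assoc, Category.id_comp,
    ← phi_natural hX _ (picZero_utrans hc), pullCl_pullCl, ← Over.comp_left, whisker_lift_utrans] at h
  exact mul_inv_eq_one.1 h

end Groth.Agent.AbDual21

end
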